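/-
The subgroup generated by b, …, i of the presented Fi22 is POmega(7, 3).
-/
import Cfsg.Agent.Lib.CosetEnum.Fi22Class.O73Data
import Cfsg.Agent.Lib.ThreeTrans.M22.ReflSeven
import Cfsg.Agent.Lib.CosetEnum.Fi14080.Main
import Cfsg.Agent.S1696

set_option autoImplicit false
set_option maxRecDepth 1000000
set_option linter.unusedSectionVars false

namespace CfsgLib.CosetEnum.Fi22Class.O73

open Matrix QuadraticMap CfsgReflClass

abbrev K3 := ZMod 3
abbrev V := Fin 7 → K3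

/-- The sum of squares. -/
noncomputable def Q7 : QuadraticForm K3 V := QuadraticMap.weightedSumSquares K3 fun _ : Fin 7 => (1 : K3)

theorem Q7_apply (v : V) : Q7 v = ∑ i, v i * v i := by
  simp [Q7, QuadraticMap.weightedSumSquares_apply]

theorem polar_Q7 (x y : V) : polar (⇑Q7) x y = 2 * ∑ i, x i * y i := by
  simp only [polar, Q7_apply, Pi.add_apply, Finset.mul_sum, ← Finset.sum_sub_distrib]
  exact Finset.sum_congr rfl fun i _ => by ring

theorem Q7_det : Cfsg.polarGramDet (⇑Q7) = -1 := by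
  have h : (Matrix.of fun i j : Fin 7 => polar (⇑Q7) (Pi.single i 1) (Pi.single j 1)) =
      diagonal fun _ => (2 : K3) := by
    ext i j
    rw [Matrix.of_apply, polar_Q7, Matrix.diagonal_apply]
    revert i j
    decide +kernel
  rw [Cfsg.polarGramDet, h, det_diagonal]
  decide +kernel

theorem Q7_nondeg : (polarBilin Q7).Nondegenerate := by
  have key : ∀ x : V, (∀ y, polar (⇑Q7) x y = 0) → x = 0 := by
    intro x hx
    funext i
    have h := hx (Pi.single i 1)
    rw [polar_Q7, Finset.sum_eq_single i (fun j _ hj => by simp [hj]) (by simp), Pi.single_eq_same, mul_one] at h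
    exact (mul_eq_zero.mp h).resolve_left (by decide)
  exact ⟨fun x hx => key x hx, fun y hy => key y fun x => by rw [polar_comm]; exact hy x⟩

/-- The vector of a code. -/
noncomputable def vec (x : ℕ) : V := fun i => (dig3 x i : K3)

theorem dig3_lt (x i : ℕ) : dig3 x i < 3 := Nat.mod_lt _ (by norm_num)

theorem dig3_enc (f : ℕ → ℕ) (hf : ∀ i, f i < 3) (i : Fin 7) : dig3 (enc3 f) i = f i := by
  have h0 := hf 0; have h1 := hf 1; have h2 := hf 2; have h3 := hf 3; have h4 := hf 4; have h5 := hf 5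
  have h6 := hf 6
  fin_cases i <;>
  · show enc3 f / 3 ^ _ % 3 = _
    simp only [enc3]
    norm_num
    omega

theorem vec_dot (x y : ℕ) : ∑ i, vec x i * vec y i = (dot3 x y : K3) := by
  show _ = ((_ % 3 : ℕ) : K3)
  rw [ZMod.natCast_mod]
  simp only [Fin.sum_univ_seven, vec]
  push_cast
  rfl

theorem vec_neg (x : ℕ) : vec (neg3 x) = -vec x := by
  funext i
  show (dig3 (neg3 x) i : K3) = -(dig3 x i : K3)
  rw [neg3, force_eq, dig3_enc (fun i => Nat.mod (2 * dig3 x i) 3) fun _ => Nat.mod_lt _ (by norm_num)]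
  show ((2 * dig3 x i % 3 : ℕ) : K3) = _
  rw [ZMod.natCast_mod]
  push_cast
  have h3 : (3 : K3) = 0 := rfl
  linear_combination (dig3 x i : K3) * h3

theorem vec_refl (v x : ℕ) : vec (refl3 v x) = vec x + (dot3 x v : K3) • vec v := by
  funext i
  show (dig3 (refl3 v x) i : K3) = (dig3 x i : K3) + (dot3 x v : K3) * (dig3 v i : K3)
  rw [refl3, force_eq, force_eq, force_eq,
    dig3_enc (fun i => Nat.mod (dig3 x i + dot3 x v * dig3 v i) 3) fun _ => Nat.mod_lt _ (by norm_num)]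
  show ((( dig3 x i + dot3 x v * dig3 v i) % 3 : ℕ) : K3) = _
  rw [ZMod.natCast_mod]
  push_cast
  rfl

theorem vec_surj (e : V) : ∃ x < 2187, vec x = e := by
  set f : ℕ → ℕ := fun i => if h : i < 7 then (e ⟨i, h⟩).val else 0 with hf
  have hlt : ∀ i, f i < 3 := fun i => by rw [hf]; dsimp only; split; exacts [ZMod.val_lt _, by norm_num]
  refine ⟨enc3 f, ?_, funext fun i => ?_⟩
  · have := hlt 0; have := hlt 1; have := hlt 2; have := hlt 3; have := hlt 4; have := hlt 5; have := hlt 6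
    unfold enc3
    omega
  · show (dig3 (enc3 f) i : K3) = e i
    rw [dig3_enc f hlt, hf]
    simp only [i.2, dif_pos, Fin.eta, ZMod.natCast_zmod_val]

/-- The points of the orbit. -/
abbrev Pt : Type := {d : Fin Fi3510.cert.T.n // orbLab otree (d : ℕ) = 0}

theorem point_spec (d : Pt) : dot3 (vt7 d.1) (vt7 d.1) = 1 ∧ ∀ k < 8,
    refl3 (vt7 (gpts7.getD k 0)) (vt7 d.1) = vt7 (runT Fi3510.table 9 (gens7.getD k []) d.1) ∨
      neg3 (refl3 (vt7 (gpts7.getD k 0)) (vt7 d.1)) = vt7 (runT Fi3510.table 9 (gens7.getD k []) d.1) := by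
  have h := point7_ok d.1 d.1.2
  rw [okPoint7, d.2] at h
  simp only [force_eq, show Nat.beq 0 0 = true from rfl, Bool.and_eq_true, List.all_eq_true, List.mem_range,
    Bool.or_eq_true] at h
  exact ⟨Nat.eq_of_beq_eq_true h.2.1, fun k hk => (h.2.2 k hk).imp Nat.eq_of_beq_eq_true Nat.eq_of_beq_eq_true⟩

theorem orb_ok (d : ℕ) (hd : d < 3510) : okOrb Fi3510.table 9 gens7 otree roots7 d = true := by
  have h := point7_ok d hd
  simp only [okPoint7, Bool.and_eq_true] at h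
  exact h.1

theorem gpts_spec : ∀ k < 8, gpts7.getD k 0 < 3510 ∧ orbLab otree (gpts7.getD k 0) = 0 := by decide +kernel

theorem hw_gens : ∀ w ∈ Fi14080.hw, ∃ k < 8, w = gens7.getD k [] := by decide +kernel

theorem gens_hw : ∀ k < 8, gens7.getD k [] ∈ Fi14080.hw ∧ (gens7.getD k []).reverse = gens7.getD k [] ∧
    gens7.getD k [] ∈ gens7 ∧ ∀ x ∈ gens7.getD k [], x < 9 := by decide +kernel

theorem gens_of_mem : ∀ w ∈ gens7, ∃ k < 8, w = gens7.getD k [] := by decide +kernel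

theorem hom_gen (k : ℕ) (hk : k < 8) (d : Fin Fi3510.cert.T.n) :
    (Fi3510.cert.hom Fi3510.hlt ((gens7.getD k []).map presFi22.σ).prod d : ℕ) =
      runT Fi3510.table 9 (gens7.getD k []) d := by
  rw [Fi3510.cert.hom_word_run' Fi3510.hlt hid _ (gens_hw k hk).2.2.2, (gens_hw k hk).2.1]
  rfl

theorem invariant : ∀ u ∈ Fi14080.cert.sub, ∀ d : Fin Fi3510.cert.T.n,
    orbLab otree (Fi3510.cert.hom Fi3510.hlt u d : ℕ) = orbLab otree (d : ℕ) := by
  intro u hu
  induction hu using Subgroup.closure_induction with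
  | mem u hu =>
    obtain ⟨w, hw, rfl⟩ := hu
    obtain ⟨k, hk, rfl⟩ := hw_gens w hw
    intro d
    rw [hom_gen k hk]
    exact (okOrb_lab (orb_ok d d.2)).1 _ (gens_hw k hk).2.2.1
  | one => intro d; rw [map_one, Equiv.Perm.one_apply]
  | mul u v _ _ hu hv => intro d; rw [map_mul, Equiv.Perm.mul_apply, hu, hv]
  | inv u _ hu =>
    intro d
    have := hu (Fi3510.cert.hom Fi3510.hlt u⁻¹ d)
    rw [← Equiv.Perm.mul_apply, ← map_mul, mul_inv_cancel, map_one, Equiv.Perm.one_apply] at this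
    exact this.symm

/-- The image of a point. -/
noncomputable def mv (u : ↥Fi14080.cert.sub) (d : Pt) : Pt :=
  ⟨Fi3510.cert.hom Fi3510.hlt u d.1, (invariant u u.2 d.1).trans d.2⟩

theorem mv_mul (u v : ↥Fi14080.cert.sub) (d : Pt) : mv (u * v) d = mv u (mv v d) := Subtype.ext (by
  show Fi3510.cert.hom Fi3510.hlt ((u : presFi22.Grp) * v) d.1 = _
  rw [map_mul]; rfl)

theorem mv_one (d : Pt) : mv 1 d = d := Subtype.ext (by
  show Fi3510.cert.hom Fi3510.hlt 1 d.1 = _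
  rw [map_one]; rfl)

/-- The point of `b`. -/
def p₀ : Pt := ⟨⟨2, show 2 < 3510 by decide⟩, by show orbLab otree 2 = 0; decide +kernel⟩

theorem exists_mv (d : Pt) : ∃ u : ↥Fi14080.cert.sub, mv u p₀ = d := by
  induction hr : orbRank otree (d.1 : ℕ) using Nat.strong_induction_on generalizing d with
  | _ r ih =>
    by_cases h0 : (d.1 : ℕ) = roots7.getD (orbLab otree (d.1 : ℕ)) 0
    · refine ⟨1, (mv_one _).trans (Subtype.ext (Fin.ext ?_))⟩
      rw [h0, d.2]; rfl
    obtain ⟨w, hw, p, hp, hlt', he⟩ := (okOrb_lab (orb_ok d.1 d.1.2)).2 h0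
    have hl : orbLab otree p = 0 := by rw [← (okOrb_lab (orb_ok p hp)).1 w hw, he, d.2]
    obtain ⟨k, hk, rfl⟩ := gens_of_mem w hw
    obtain ⟨u, hu⟩ := ih _ (hr ▸ hlt') ⟨⟨p, hp⟩, hl⟩ rfl
    refine ⟨⟨_, Subgroup.subset_closure ⟨_, (gens_hw k hk).1, rfl⟩⟩ * u, ?_⟩
    rw [mv_mul, hu]
    exact Subtype.ext (Fin.ext ((hom_gen k hk _).trans he))

/-- The reflection group. -/
noncomputable abbrev RR : Subgroup (Cfsg.isometryGroup K3 (⇑Q7)) := Cfsg.reflectionSubgroup (⇑Q7) 1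

/-- The subgroup is POmega(7, 3). -/
theorem iso : Nonempty (↥Fi14080.cert.sub ≃* Cfsg.POmega K3 (Cfsg.quadFormOdd 3 K3)) := by
  classical
  haveI : Finite presFi22.Grp := Cfsg.Agent.S1696.upper.1
  obtain ⟨⟨eR⟩, hcR⟩ := CfsgThreeTrans.M22.ReflSeven.proj_omega Q7 (c := 1) Q7_det one_ne_zero Q7_nondeg
  change Nat.card (↥RR ⧸ Subgroup.center ↥RR) = 4585351680 at hcR
  set O := Cfsg.isometryGroup K3 (⇑Q7)
  set H := Fi14080.cert.sub
  have hQv : ∀ d : Pt, Q7 (vec (vt7 d.1)) = 1 := fun d => by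
    rw [Q7_apply, vec_dot, (point_spec d).1, Nat.cast_one]
  have hrefl : ∀ d : Pt, ∀ r : O, IsRefl Q7 r (vec (vt7 d.1)) → r ∈ RR := fun d r hr =>
    show r ∈ Subgroup.closure (Cfsg.reflectionsOfNorm (⇑Q7) 1) from
      Subgroup.subset_closure ⟨vec (vt7 d.1), hQv d, (isRefl_iff hr.1).mp hr⟩
  have hact : ∀ d : Pt, ∀ r : O, IsRefl Q7 r (vec (vt7 d.1)) → ∀ x : ℕ,
      r.1.1 *ᵥ vec x = vec (refl3 (vt7 d.1) x) := fun d r hr x => by
    rw [hr.2, hQv, vec_refl, inv_one, one_mul, polar_Q7,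
      show (∑ i, vec (vt7 d.1) i * vec x i) = ∑ i, vec x i * vec (vt7 d.1) i from
        Finset.sum_congr rfl fun i _ => mul_comm _ _, vec_dot]
    congr 2
    have h3 : (3 : K3) = 0 := rfl
    linear_combination (-(dot3 x (vt7 d.1) : K3)) * h3
  let Rel : ↥H → ↥RR → Prop := fun u g => ∀ d : Pt,
    g.1.1.1 *ᵥ vec (vt7 d.1) = vec (vt7 (mv u d).1) ∨ g.1.1.1 *ᵥ vec (vt7 d.1) = -vec (vt7 (mv u d).1)
  -- every vector of norm one is one of the points, up to sign
  have hcover : ∀ v : V, Q7 v = 1 → ∃ d : Pt, v = vec (vt7 d.1) ∨ v = -vec (vt7 d.1) := by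
    intro v hv
    obtain ⟨x, hx, rfl⟩ := vec_surj v
    have h := allN_spec vec7_ok x hx
    simp only [okVec7, Bool.or_eq_true, Bool.not_eq_true', List.any_eq_true, force_eq, Bool.and_eq_true, blt_iff] at h
    rcases h with h | ⟨y, hy, ⟨hd, hl⟩, hyv⟩
    · exfalso
      apply Nat.ne_of_beq_eq_false h
      rw [Q7_apply, vec_dot] at hv
      have hlt : dot3 x x < 3 := Nat.mod_lt _ (by norm_num)
      have := congrArg ZMod.val hv
      rwa [ZMod.val_natCast, Nat.mod_eq_of_lt hlt] at this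
    · refine ⟨⟨⟨_, hd⟩, Nat.eq_of_beq_eq_true hl⟩, ?_⟩
      show vec x = vec (vt7 (back7 y)) ∨ vec x = -vec (vt7 (back7 y))
      rw [Nat.eq_of_beq_eq_true hyv]
      simp only [List.mem_cons, List.not_mem_nil, or_false] at hy
      rcases hy with rfl | rfl
      · exact Or.inl rfl
      · exact Or.inr (by rw [vec_neg, neg_neg])
  have hex : ∀ u : ↥H, ∃ g, Rel u g := by
    have key : ∀ u ∈ H, ∃ hu : u ∈ H, ∃ g, Rel ⟨u, hu⟩ g := by
      intro u hu
      induction hu using Subgroup.closure_induction with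
      | mem u hu =>
        obtain ⟨w, hw, rfl⟩ := hu
        obtain ⟨k, hk, rfl⟩ := hw_gens w hw
        obtain ⟨hp, hl⟩ := gpts_spec k hk
        set e : Pt := ⟨⟨_, hp⟩, hl⟩
        obtain ⟨r, hr⟩ := IsRefl.exists (show Q7 (vec (vt7 e.1)) ≠ 0 by rw [hQv]; exact one_ne_zero)
        refine ⟨Subgroup.subset_closure ⟨_, hw, rfl⟩, ⟨r, hrefl e r hr⟩, fun d => ?_⟩
        show r.1.1 *ᵥ _ = vec (vt7 (Fi3510.cert.hom Fi3510.hlt _ d.1 : ℕ)) ∨
          r.1.1 *ᵥ _ = -vec (vt7 (Fi3510.cert.hom Fi3510.hlt _ d.1 : ℕ))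
        rw [hom_gen k hk, hact e r hr]
        rcases (point_spec d).2 k hk with he | he
        · exact Or.inl (congrArg vec he)
        · right
          rw [← he, vec_neg, neg_neg]
      | one => exact ⟨one_mem H, 1, fun d => Or.inl (by rw [show (⟨1, one_mem H⟩ : ↥H) = 1 from rfl, mv_one]; exact iso_one Q7 _)⟩
      | mul u v _ _ hu hv =>
        obtain ⟨hu', g, hg⟩ := hu
        obtain ⟨hv', k, hk⟩ := hv
        refine ⟨mul_mem hu' hv', g * k, fun d => ?_⟩
        rw [show (⟨u * v, mul_mem hu' hv'⟩ : ↥H) = ⟨u, hu'⟩ * ⟨v, hv'⟩ from rfl, mv_mul]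
        show (g.1 * k.1 : O).1.1 *ᵥ _ = _ ∨ (g.1 * k.1 : O).1.1 *ᵥ _ = _
        rw [iso_mul]
        rcases hk d with e1 | e1 <;> rcases hg (mv ⟨v, hv'⟩ d) with e2 | e2
        · exact Or.inl (by rw [e1, e2])
        · exact Or.inr (by rw [e1, e2])
        · exact Or.inr (by rw [e1, mulVec_neg, e2])
        · exact Or.inl (by rw [e1, mulVec_neg, e2, neg_neg])
      | inv u _ hu =>
        obtain ⟨hu', g, hg⟩ := hu
        refine ⟨inv_mem hu', g⁻¹, fun d => ?_⟩
        have hd := hg (mv ⟨u⁻¹, inv_mem hu'⟩ d)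
        rw [← mv_mul, show (⟨u, hu'⟩ : ↥H) * ⟨u⁻¹, inv_mem hu'⟩ = 1 from Subtype.ext (mul_inv_cancel u), mv_one] at hd
        have hc : ∀ x, (g⁻¹ : ↥RR).1.1.1 *ᵥ (g.1.1.1 *ᵥ x) = x := fun x => by
          rw [← iso_mul Q7 (g⁻¹ : ↥RR).1 g.1, show (g⁻¹ : ↥RR).1 * g.1 = 1 from inv_mul_cancel g.1, iso_one]
        rcases hd with e | e
        · left
          conv_lhs => rw [← e, hc]
        · right
          conv_lhs => rw [← neg_neg (vec (vt7 d.1)), ← e, mulVec_neg, hc]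
    intro u
    obtain ⟨_, g, hg⟩ := key u u.2
    exact ⟨g, hg⟩
  -- an element fixing all points is central
  have hcent : ∀ g : ↥RR, (∀ d : Pt, g.1.1.1 *ᵥ vec (vt7 d.1) = vec (vt7 d.1) ∨
      g.1.1.1 *ᵥ vec (vt7 d.1) = -vec (vt7 d.1)) → g ∈ Subgroup.center ↥RR := by
    intro g hg
    refine Subgroup.mem_center_iff.mpr fun k => Subtype.ext ?_
    have hle : RR ≤ Subgroup.centralizer ({g.1} : Set O) := by
      refine (Subgroup.closure_le _).mpr ?_
      rintro r ⟨v, hv, hr⟩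
      refine Subgroup.mem_centralizer_singleton_iff.mpr ?_
      have hr' : IsRefl Q7 r v := (isRefl_iff (by rw [hv]; exact one_ne_zero)).mpr hr
      obtain ⟨d, hd⟩ := hcover v hv
      have hgv : g.1.1.1 *ᵥ v = v ∨ g.1.1.1 *ᵥ v = -v := by
        rcases hd with rfl | rfl
        · exact hg d
        · rcases hg d with e | e
          · exact Or.inl (by rw [mulVec_neg, e])
          · exact Or.inr (by rw [mulVec_neg, e])
      have hcj : IsRefl Q7 (g.1 * r * g.1⁻¹) v := by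
        have := hr'.conj (g := g.1)
        rcases hgv with e | e
        · rwa [e] at this
        · rw [e] at this
          refine ⟨hr'.1, fun x => ?_⟩
          rw [this.2, QuadraticMap.map_neg, polar_neg_left]
          simp
      exact (mul_inv_eq_iff_eq_mul.mp (IsRefl.unique hcj hr')).symm
    exact Subgroup.mem_centralizer_singleton_iff.mp (hle k.2)
  have huniq : ∀ u g g', Rel u g → Rel u g' → (g : ↥RR ⧸ Subgroup.center ↥RR) = g' := by
    intro u g g' hg hg'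
    refine QuotientGroup.eq.mpr (hcent _ fun d => ?_)
    have hc : ∀ x, (g⁻¹ : ↥RR).1.1.1 *ᵥ (g.1.1.1 *ᵥ x) = x := fun x => by
      rw [← iso_mul Q7 (g⁻¹ : ↥RR).1 g.1, show (g⁻¹ : ↥RR).1 * g.1 = 1 from inv_mul_cancel g.1, iso_one]
    show ((g⁻¹ : ↥RR).1 * g'.1 : O).1.1 *ᵥ _ = _ ∨ ((g⁻¹ : ↥RR).1 * g'.1 : O).1.1 *ᵥ _ = _
    rw [iso_mul]
    rcases hg' d with e1 | e1 <;> rcases hg d with e2 | e2
    · exact Or.inl (by rw [e1, ← e2, hc])
    · exact Or.inr (by rw [e1, ← neg_neg (vec (vt7 (mv u d).1)), ← e2, mulVec_neg, hc])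
    · exact Or.inr (by rw [e1, mulVec_neg, ← e2, hc])
    · exact Or.inl (by rw [e1, ← e2, hc])
  choose gf hgf using hex
  let φ : ↥H →* ↥RR ⧸ Subgroup.center ↥RR :=
    MonoidHom.mk' (fun u => (gf u : ↥RR ⧸ Subgroup.center ↥RR)) fun u v =>
      huniq (u * v) _ (gf u * gf v) (hgf _) fun d => by
        show ((gf u).1 * (gf v).1 : O).1.1 *ᵥ _ = _ ∨ ((gf u).1 * (gf v).1 : O).1.1 *ᵥ _ = _
        rw [iso_mul, mv_mul]
        rcases hgf v d with e1 | e1 <;> rcases hgf u (mv v d) with e2 | e2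
        · exact Or.inl (by rw [e1, e2])
        · exact Or.inr (by rw [e1, e2])
        · exact Or.inr (by rw [e1, mulVec_neg, e2])
        · exact Or.inl (by rw [e1, mulVec_neg, e2, neg_neg])
  -- surjectivity
  have hbH : ((gens7.getD 0 []).map presFi22.σ).prod ∈ H :=
    Subgroup.subset_closure ⟨_, (gens_hw 0 (by norm_num)).1, rfl⟩
  set bH : ↥H := ⟨_, hbH⟩
  obtain ⟨rb, hrb⟩ := IsRefl.exists (show Q7 (vec (vt7 p₀.1)) ≠ 0 by rw [hQv]; exact one_ne_zero)
  have hb : φ bH = ((⟨rb, hrefl p₀ rb hrb⟩ : ↥RR) : ↥RR ⧸ Subgroup.center ↥RR) := huniq bH _ _ (hgf _) fun d => by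
    show rb.1.1 *ᵥ _ = vec (vt7 (Fi3510.cert.hom Fi3510.hlt _ d.1 : ℕ)) ∨
      rb.1.1 *ᵥ _ = -vec (vt7 (Fi3510.cert.hom Fi3510.hlt _ d.1 : ℕ))
    rw [hom_gen 0 (by norm_num), hact p₀ rb hrb]
    rcases (point_spec d).2 0 (by norm_num) with he | he
    · exact Or.inl (congrArg vec he)
    · right
      rw [← he, vec_neg, neg_neg]
      rfl
  have hsur : Function.Surjective φ := by
    rw [← MonoidHom.range_eq_top, eq_top_iff]
    intro q _
    obtain ⟨k, rfl⟩ := QuotientGroup.mk'_surjective _ q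
    have hle : RR ≤ (φ.range.comap (QuotientGroup.mk' (Subgroup.center ↥RR))).map RR.subtype := by
      refine (Subgroup.closure_le _).mpr ?_
      rintro r ⟨v, hv, hr⟩
      have hr' : IsRefl Q7 r v := (isRefl_iff (by rw [hv]; exact one_ne_zero)).mpr hr
      refine ⟨⟨r, Subgroup.subset_closure ⟨v, hv, hr⟩⟩, ?_, rfl⟩
      obtain ⟨d, hd⟩ := hcover v hv
      obtain ⟨u, rfl⟩ := exists_mv d
      refine ⟨u * bH * u⁻¹, ?_⟩
      rw [map_mul, map_mul, map_inv, hb]
      show ((gf u * ⟨rb, hrefl p₀ rb hrb⟩ * (gf u)⁻¹ : ↥RR) : ↥RR ⧸ Subgroup.center ↥RR) = _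
      refine congrArg (QuotientGroup.mk' (Subgroup.center ↥RR)) (Subtype.ext (IsRefl.unique ?_ hr'))
      have hcj := hrb.conj (g := (gf u).1)
      show IsRefl Q7 ((gf u).1 * rb * (gf u).1⁻¹) v
      rcases hgf u p₀ with e | e <;> rw [e] at hcj <;> rcases hd with rfl | rfl
      · exact hcj
      · refine ⟨hr'.1, fun x => ?_⟩
        rw [hcj.2, QuadraticMap.map_neg, polar_neg_left]; simp
      · refine ⟨hr'.1, fun x => ?_⟩
        rw [hcj.2, QuadraticMap.map_neg, polar_neg_left]; simp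
      · exact hcj
    obtain ⟨k', hk', e⟩ := hle k.2
    rw [← Subtype.ext (show k'.1 = k.1 from e)]
    exact hk'
  have hHc : 14080 * Nat.card ↥H = 64561751654400 := by
    obtain ⟨e, -⟩ := Fi14080.cert.exists_equiv Fi14080.hlt hid Fi14080.hhw
    rw [← (show Nat.card presFi22.Grp = 64561751654400 from Cfsg.Agent.S1696.result.2), ← H.card_mul_index,
      index_eq_of_equiv e, mul_comm]
    rfl
  have hbij : Function.Bijective φ := (Nat.bijective_iff_surjective_and_card φ).mpr ⟨hsur, by rw [hcR]; omega⟩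
  exact ⟨(MulEquiv.ofBijective φ hbij).trans eR⟩

end CfsgLib.CosetEnum.Fi22Class.O73
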