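/-
The transposition class of the presented Fi22.
-/
import Cfsg.Agent.Lib.CosetEnum.PointClass
import Cfsg.Agent.Lib.CosetEnum.Fi3510.Main

set_option autoImplicit false
set_option maxRecDepth 1000000

namespace CfsgLib.CosetEnum.Fi22Class

/-- The permutation of the transposition `a`. -/
noncomputable def zf (d : ℕ) : ℕ := Fi3510.table.act 9 d 0

/-- A representative of the members not commuting with `a`. -/
def g : List ℕ := [1]

/-- A representative of the members commuting with `a`. -/
def g' : List ℕ := [1, 2, 0, 1]

/-- The pairs to check. -/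
def pairs : List (List ℕ × ℕ) := [(g, 3), (g', 2)]

theorem class0_ok : okClass Fi3510.table 9 zf Fi3510.hwR pairs 0 1200 = true := by decide +kernel
theorem class1_ok : okClass Fi3510.table 9 zf Fi3510.hwR pairs 1200 1200 = true := by decide +kernel
theorem class2_ok : okClass Fi3510.table 9 zf Fi3510.hwR pairs 2400 1110 = true := by decide +kernel

theorem class_ok : ∀ d < 3510, okClassPoint Fi3510.table 9 zf Fi3510.hwR pairs d = true := by
  have h0 : ∀ d < 0, okClassPoint Fi3510.table 9 zf Fi3510.hwR pairs d = true := fun d hd =>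
    absurd hd (Nat.not_lt_zero d)
  exact okClass_sound class2_ok (okClass_sound class1_ok (okClass_sound class0_ok h0))

theorem hid : ∀ i < presFi22.k, presFi22.idx (presFi22.gen i) = i := by decide

theorem zf_spec : ∀ d < 3510, runT Fi3510.table 9 ([0] : List ℕ).reverse d = zf d := fun d _ => by
  rw [runT_eq]; rfl

theorem moved : (∃ d < 3510, conjMap Fi3510.table 9 zf g d ≠ zf d) ∧
    (∃ d < 3510, conjMap Fi3510.table 9 zf g' d ≠ zf d) := by
  refine ⟨⟨0, by decide, ?_⟩, ⟨1, by decide, ?_⟩⟩
  · exact Nat.ne_of_beq_eq_false (by decide +kernel)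
  · exact Nat.ne_of_beq_eq_false (by decide +kernel)

theorem point_class [Finite presFi22.Grp] [IsSimpleGroup presFi22.Grp]
    (hinj : Function.Injective (Fi3510.cert.hom Fi3510.hlt)) :
    Subgroup.centralizer ({(([0] : List ℕ).map presFi22.σ).prod} : Set presFi22.Grp) = Fi3510.cert.sub ∧
      Cfsg.IsThreeTranspositionClass (conjugatesOf (([0] : List ℕ).map presFi22.σ).prod) ∧
      (conjugatesOf (([0] : List ℕ).map presFi22.σ).prod).ncard = 3510 :=
  Fi3510.cert.point_class Fi3510.hlt hid hinj Fi3510.hhw Fi3510.orb Fi3510.roots Fi3510.hwR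
    (by decide +kernel) Fi3510.orbs [0] (by decide) zf zf_spec g g' 3 2 (Or.inr rfl) (Or.inl rfl) (by decide) (by decide)
    rfl (by decide +kernel) (by decide +kernel) (by decide +kernel) class_ok moved.1 moved.2

end CfsgLib.CosetEnum.Fi22Class
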