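/-
The point stabiliser of the presented Fi22 is a non-split double cover of PSU(6, 2).
-/
import Cfsg.Agent.Lib.CosetEnum.Fi22Class.U62Data
import Cfsg.Agent.Lib.ThreeTrans.M22.Quasi
import Cfsg.Agent.Lib.UnitarySimple
import Cfsg.Agent.S1696
import Mathlib.FieldTheory.Finite.GaloisField

set_option autoImplicit false
set_option maxRecDepth 1000000
set_option linter.unusedSectionVars false

namespace CfsgLib.CosetEnum.Fi22Class

open Cfsg Matrix CfsgLib.UnitarySimple CfsgLib.UnitaryTransvection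

theorem gadd_table : ∀ a < 4, ∀ b < 4,
    gadd a b = ([0, 1, 2, 3, 1, 0, 3, 2, 2, 3, 0, 1, 3, 2, 1, 0] : List ℕ).getD (4 * a + b) 0 := by decide +kernel

theorem gmul_table : ∀ a < 4, ∀ b < 4,
    gmul a b = ([0, 0, 0, 0, 0, 1, 2, 3, 0, 2, 3, 1, 0, 3, 1, 2] : List ℕ).getD (4 * a + b) 0 := by decide +kernel

theorem fld_two_lt (x o : ℕ) : fld x o 2 < 4 := by
  show (x >>> o) % 2 ^ 2 < 4
  exact Nat.mod_lt _ (by norm_num)

theorem dig_lt (x i : ℕ) : dig x i < 4 := fld_two_lt _ _

theorem gadd_lt (a b : ℕ) : gadd a b < 4 := fld_two_lt _ _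

theorem gmul_lt (a b : ℕ) : gmul a b < 4 := fld_two_lt _ _

theorem dig_enc (f : ℕ → ℕ) (hf : ∀ i, f i < 4) (i : Fin 6) : dig (enc f) i = f i := by
  have h0 := hf 0; have h1 := hf 1; have h2 := hf 2; have h3 := hf 3; have h4 := hf 4; have h5 := hf 5
  fin_cases i <;>
  · show (enc f >>> (2 * _)) % 2 ^ 2 = _
    simp only [enc, Nat.shiftRight_eq_div_pow]
    norm_num
    omega

section Field

variable {F : Type} [Field F] [Fintype F] (hF : Fintype.card F = 2 ^ 2) (ω : F) (hω : ω * ω + ω + 1 = 0)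

/-- The field element of a digit. -/
def gam (k : ℕ) : F := if k = 0 then 0 else if k = 1 then 1 else if k = 2 then ω else ω + 1

/-- The vector of a code. -/
noncomputable def vec (x : ℕ) : Fin 6 → F := fun i => gam ω (dig x i)

include hF in
theorem two_zero : (2 : F) = 0 := by
  have h : CharP F 2 := by
    obtain ⟨p, hp⟩ := CharP.exists F
    obtain ⟨n, hp', hn⟩ := FiniteField.card F p
    rw [hF] at hn
    have : p ∣ 2 ^ 2 := hn ▸ dvd_pow_self p n.2.ne'
    rwa [(Nat.prime_dvd_prime_iff_eq hp' Nat.prime_two).mp (hp'.dvd_of_dvd_pow this)] at hp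
  exact CharP.cast_eq_zero F 2

include hF hω in
theorem gam_add {a b : ℕ} (ha : a < 4) (hb : b < 4) : gam ω (gadd a b) = gam ω a + gam ω b := by
  have h2 := two_zero hF
  rw [gadd_table a ha b hb]
  interval_cases a <;> interval_cases b <;>
    simp [gam] <;> grind

include hF hω in
theorem gam_mul {a b : ℕ} (ha : a < 4) (hb : b < 4) : gam ω (gmul a b) = gam ω a * gam ω b := by
  have h2 := two_zero hF
  rw [gmul_table a ha b hb]
  interval_cases a <;> interval_cases b <;>
    simp [gam] <;> grind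

include hF hω in
theorem gam_injective {a b : ℕ} (ha : a < 4) (hb : b < 4) (h : gam ω a = gam ω b) : a = b := by
  have h2 := two_zero hF
  have h1 : (1 : F) ≠ 0 := one_ne_zero
  interval_cases a <;> interval_cases b <;> simp [gam] at h <;> first | rfl | grind

include hF hω in
theorem gam_ne {a : ℕ} (ha : a < 4) (h : a ≠ 0) : gam ω a ≠ 0 := fun e =>
  h (gam_injective hF ω hω ha (by norm_num) (by rw [e]; rfl))

include hF hω in
theorem gam_surj (e : F) : ∃ k < 4, gam ω k = e := by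
  have hb : Function.Bijective (fun k : Fin 4 => gam ω (k : ℕ)) := (Fintype.bijective_iff_injective_and_card _).mpr
    ⟨fun a b h => Fin.ext (gam_injective hF ω hω a.2 b.2 h), by rw [Fintype.card_fin, hF]; rfl⟩
  obtain ⟨k, hk⟩ := hb.2 e
  exact ⟨k, k.2, hk⟩

include hF hω in
theorem vec_herm (x y : ℕ) : hermForm 6 F 2 (vec ω x) (vec ω y) = gam ω (gherm x y) := by
  simp only [hermForm, Fin.sum_univ_six, vec, gherm, gam_add hF ω hω, gam_mul hF ω hω, gadd_lt, gmul_lt, dig_lt,
    pow_two]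
  simp only [Fin.val_zero, Fin.val_one, Fin.val_two, show ((3 : Fin 6) : ℕ) = 3 from rfl,
    show ((4 : Fin 6) : ℕ) = 4 from rfl, show ((5 : Fin 6) : ℕ) = 5 from rfl]
  ring

include hF hω in
theorem vec_scale (c : ℕ) (hc : c < 4) (x : ℕ) : vec ω (gscale c x) = gam ω c • vec ω x := by
  funext i
  show gam ω (dig (gscale c x) i) = gam ω c * gam ω (dig x i)
  rw [gscale, force_eq, dig_enc _ (fun _ => gmul_lt _ _), gam_mul hF ω hω hc (dig_lt _ _)]

include hF hω in
theorem vec_gtv (v x : ℕ) : vec ω (gtv v x) = vec ω x + hermForm 6 F 2 (vec ω x) (vec ω v) • vec ω v := by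
  funext i
  show gam ω (dig (gtv v x) i) = gam ω (dig x i) + hermForm 6 F 2 (vec ω x) (vec ω v) * gam ω (dig v i)
  rw [gtv, force_eq, force_eq, force_eq, dig_enc _ (fun _ => gadd_lt _ _), gam_add hF ω hω (dig_lt _ _) (gmul_lt _ _),
    gam_mul hF ω hω (show gherm x v < 4 from gadd_lt _ _) (dig_lt _ _), vec_herm hF ω hω]

include hF hω in
theorem vec_surj (e : Fin 6 → F) : ∃ x < 4096, vec ω x = e := by
  choose k hk hke using fun i : Fin 6 => gam_surj hF ω hω (e i)
  set f : ℕ → ℕ := fun i => if h : i < 6 then k ⟨i, h⟩ else 0 with hf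
  have hlt : ∀ i, f i < 4 := fun i => by rw [hf]; dsimp only; split; exacts [hk _, by norm_num]
  refine ⟨enc f, ?_, funext fun i => ?_⟩
  · have := hlt 0; have := hlt 1; have := hlt 2; have := hlt 3; have := hlt 4; have := hlt 5
    show enc f < 4096
    unfold enc
    omega
  · show gam ω (dig (enc f) i) = e i
    rw [dig_enc f hlt, hf]
    simp only [i.2, dif_pos, Fin.eta, hke]

end Field

/-- The partners of the transposition `a`. -/
abbrev Orb : Type := {d : Fin Fi3510.cert.T.n // orbLab Fi3510.orb (d : ℕ) = 2}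

theorem okp (d : Orb) : vt d.1 ≠ 0 ∧ gherm (vt d.1) (vt d.1) = 0 ∧ back (vt d.1) = d.1 ∧
    ∀ k < 9, ∃ c, 0 < c ∧ c < 4 ∧ gscale c (vt (runT Fi3510.table 9 (Fi3510.hwR.getD k []) d.1)) =
      (gds.getD k []).foldr (fun e x => gtv (vt e) x) (vt d.1) := by
  have h := partner_ok d.1 d.1.2
  rw [okPartner, d.2] at h
  simp only [force_eq, show Nat.beq 2 2 = true from rfl, Bool.and_eq_true, Bool.not_eq_true', List.all_eq_true,
    List.mem_range, List.any_eq_true] at h
  obtain ⟨⟨⟨h1, h2⟩, h3⟩, h4⟩ := h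
  refine ⟨Nat.ne_of_beq_eq_false h1, Nat.eq_of_beq_eq_true h2, Nat.eq_of_beq_eq_true h3, fun k hk => ?_⟩
  obtain ⟨c, hc, he⟩ := h4 k hk
  simp only [List.mem_cons, List.not_mem_nil, or_false] at hc
  exact ⟨c, by omega, by omega, Nat.eq_of_beq_eq_true he⟩

theorem gds_mem : ∀ k < 9, ∀ e ∈ gds.getD k [], e < 3510 ∧ orbLab Fi3510.orb e = 2 := by decide +kernel

theorem hinj : Function.Injective (Fi3510.cert.hom Fi3510.hlt) := by
  haveI : Finite presFi22.Grp := Cfsg.Agent.S1696.upper.1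
  exact Fi3510.cert.hom_injective Fi3510.hlt (Fi3510.cert.card_le_of_fixSub Fi3510.hlt
    (Cfsg.Agent.S1696.lower (Fi3510.cert.ker_le_fixSub Fi3510.hlt _))) Cfsg.Agent.S1696.upper.2

/-- The transposition `a`. -/
noncomputable def ta : presFi22.Grp := (([0] : List ℕ).map presFi22.σ).prod

theorem facts : Subgroup.centralizer ({ta} : Set presFi22.Grp) = Fi3510.cert.sub ∧
    IsThreeTranspositionClass (conjugatesOf ta) ∧ (conjugatesOf ta).ncard = 3510 := by
  haveI : Finite presFi22.Grp := Cfsg.Agent.S1696.upper.1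
  haveI : IsSimpleGroup presFi22.Grp := Cfsg.Agent.S1696.result.1
  exact point_class hinj

/-- The image of a partner. -/
noncomputable def mv (g : ↥Fi3510.cert.sub) (d : Orb) : Orb :=
  ⟨Fi3510.cert.hom Fi3510.hlt g d.1, (Fi3510.cert.lab_invariant Fi3510.hlt hid Fi3510.hhw Fi3510.orb Fi3510.roots
    Fi3510.hwR (by decide +kernel) Fi3510.orbs g g.2 d.1).trans d.2⟩

theorem mv_mul (g k : ↥Fi3510.cert.sub) (d : Orb) : mv (g * k) d = mv g (mv k d) := Subtype.ext (by
  show Fi3510.cert.hom Fi3510.hlt ((g : presFi22.Grp) * k) d.1 = _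
  rw [map_mul]; rfl)

theorem mv_one (d : Orb) : mv 1 d = d := Subtype.ext (by
  show Fi3510.cert.hom Fi3510.hlt 1 d.1 = _
  rw [map_one]; rfl)

/-- The partner `c`. -/
def d₆ : Orb := ⟨⟨6, show 6 < 3510 by decide⟩, by show orbLab Fi3510.orb 6 = 2; decide +kernel⟩

theorem exists_mv (d : Orb) : ∃ g : ↥Fi3510.cert.sub, mv g d₆ = d := by
  obtain ⟨g, hg, p, hp, hgp⟩ := Fi3510.cert.exists_root Fi3510.hlt hid Fi3510.hhw Fi3510.orb Fi3510.roots Fi3510.hwR
    (by decide +kernel) Fi3510.orbs d.1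
  refine ⟨⟨g, hg⟩, Subtype.ext ?_⟩
  have : p = d₆.1 := Fin.ext (by rw [hp, d.2]; rfl)
  rw [this] at hgp
  exact hgp

theorem conj_eq {u v : presFi22.Grp}
    (h : Fi3510.cert.hom Fi3510.hlt u ⟨0, Fi3510.cert.hn⟩ = Fi3510.cert.hom Fi3510.hlt v ⟨0, Fi3510.cert.hn⟩) :
    u * ta * u⁻¹ = v * ta * v⁻¹ := by
  haveI : Finite presFi22.Grp := Cfsg.Agent.S1696.upper.1
  have hm : v⁻¹ * u ∈ Fi3510.cert.sub := by
    refine Fi3510.cert.mem_sub_of_fix Fi3510.hlt hid Fi3510.hhw ?_
    rw [map_mul, Equiv.Perm.mul_apply, h, ← Equiv.Perm.mul_apply, ← map_mul, inv_mul_cancel, map_one,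
      Equiv.Perm.one_apply]
  rw [← facts.1, Subgroup.mem_centralizer_singleton_iff] at hm
  calc u * ta * u⁻¹ = v * (v⁻¹ * u * ta) * u⁻¹ := by group
    _ = v * ta * v⁻¹ := by rw [hm]; group

theorem hom_ta (d : Fin Fi3510.cert.T.n) : (Fi3510.cert.hom Fi3510.hlt ta d : ℕ) = zf d :=
  (Fi3510.cert.hom_word_run' Fi3510.hlt hid [0] (by decide) d).trans (zf_spec d d.2)

theorem hom_conj (v : List ℕ) (hv : ∀ x ∈ v, x < 9) (d : Fin Fi3510.cert.T.n) :
    (Fi3510.cert.hom Fi3510.hlt ((v.map presFi22.σ).prod * ta * ((v.map presFi22.σ).prod)⁻¹) d : ℕ) =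
      conjMap Fi3510.table 9 zf v d := by
  rw [map_mul, Equiv.Perm.mul_apply, map_mul, Equiv.Perm.mul_apply, Fi3510.cert.hom_word_run' Fi3510.hlt hid v hv,
    hom_ta, Fi3510.cert.hom_inv_word Fi3510.hlt hid v hv, conjMap, force_eq, force_eq]
  rfl

/-- The words of six partners whose product has cube `a`. -/
def six : List (List ℕ) :=
  [[2, 3, 7, 4, 5, 3, 4, 2, 3, 7, 8, 1, 2, 3, 7, 6, 5, 4, 3, 2, 1], [6, 5, 3, 4, 2, 3, 7, 8, 4, 1, 2, 3, 7, 5, 4, 3, 2, 1],
    [4, 3, 7, 8, 5, 3, 4, 1, 2, 3, 7, 6, 5, 4, 3, 2, 1], [5, 6, 4, 5, 3, 4, 2, 3, 1, 2, 0, 1],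
    [6, 4, 5, 3, 4, 2, 3, 7, 8, 7, 4, 5, 3, 4, 1, 2, 3, 7, 6, 5, 4, 3, 2, 1],
    [7, 4, 5, 3, 4, 1, 2, 3, 7, 6, 5, 4, 3, 2, 1]]

theorem six_check : allN 3510 (fun p => force p fun p =>
    Nat.beq ((six ++ six ++ six).foldr (fun v x => conjMap Fi3510.table 9 zf v x) p) (zf p)) = true := by
  decide +kernel

theorem six_ok : ∀ v ∈ six, (∀ x ∈ v, x < 9) ∧ orbLab Fi3510.orb (runT Fi3510.table 9 v.reverse 0) = 2 := by
  decide +kernel

theorem c_check : allN 3510 (fun p => force p fun p =>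
    Nat.beq (conjMap Fi3510.table 9 zf g' p) (Fi3510.table.act 9 p 2)) = true := by
  decide +kernel

theorem hwR_getD (k : ℕ) : Fi3510.hwR.getD k [] = (Fi3510.hw.getD k []).reverse := by
  by_cases hk : k < 9
  · interval_cases k <;> rfl
  · rw [List.getD_eq_default _ _ (not_lt.mp hk), List.getD_eq_default _ _ (not_lt.mp hk)]; rfl

set_option maxHeartbeats 2000000 in
theorem double_cover_field {F : Type} [Field F] [Fintype F] (hF : Fintype.card F = 2 ^ 2) :
    IsNonsplitDoubleCover ↥Fi3510.cert.sub (PSU 6 F 2) := by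
  classical
  haveI : Finite presFi22.Grp := Cfsg.Agent.S1696.upper.1
  obtain ⟨ω, hω⟩ : ∃ ω : F, ω * ω + ω + 1 = 0 := by
    obtain ⟨x, -, hx⟩ := Finset.exists_mem_notMem_of_card_lt_card (s := ({0, 1} : Finset F)) (t := Finset.univ)
      (lt_of_le_of_lt Finset.card_le_two (by rw [Finset.card_univ, hF]; norm_num))
    simp only [Finset.mem_insert, Finset.mem_singleton, not_or] at hx
    obtain ⟨h0, h1⟩ := hx
    refine ⟨x, ?_⟩
    have h3 : x ^ 3 = 1 := by
      have := FiniteField.pow_card_sub_one_eq_one x h0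
      rwa [hF] at this
    have : (x - 1) * (x * x + x + 1) = 0 := by linear_combination h3
    exact (mul_eq_zero.mp this).resolve_left (sub_ne_zero.mpr h1)
  have h2 := two_zero hF
  have hskew : (1 : F) + frob hF 1 = 0 := by rw [map_one]; linear_combination h2
  set H := Fi3510.cert.sub
  -- points
  have hv0 : ∀ d : Orb, vec ω (vt d.1) ≠ 0 := by
    intro d e
    obtain ⟨hne, -, hb, -⟩ := okp d
    apply hne
    have hdig : ∀ i : Fin 6, dig (vt d.1) i = 0 := fun i =>
      gam_injective hF ω hω (dig_lt _ _) (by norm_num) (by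
        show vec ω (vt d.1) i = gam ω 0
        rw [e]; rfl)
    have hlt : vt d.1 < 4096 := Nat.mod_lt _ (by norm_num)
    have e0 := hdig 0; have e1 := hdig 1; have e2 := hdig 2; have e3 := hdig 3; have e4 := hdig 4; have e5 := hdig 5
    simp only [dig, fld] at e0 e1 e2 e3 e4 e5
    change (vt d.1 >>> (2 * 0)) % 2 ^ 2 = 0 at e0
    change (vt d.1 >>> (2 * 1)) % 2 ^ 2 = 0 at e1
    change (vt d.1 >>> (2 * 2)) % 2 ^ 2 = 0 at e2
    change (vt d.1 >>> (2 * 3)) % 2 ^ 2 = 0 at e3
    change (vt d.1 >>> (2 * 4)) % 2 ^ 2 = 0 at e4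
    change (vt d.1 >>> (2 * 5)) % 2 ^ 2 = 0 at e5
    simp only [Nat.shiftRight_eq_div_pow] at e0 e1 e2 e3 e4 e5
    norm_num at e0 e1 e2 e3 e4 e5
    omega
  have hviso : ∀ d : Orb, hermForm 6 F 2 (vec ω (vt d.1)) (vec ω (vt d.1)) = 0 := fun d => by
    rw [vec_herm hF ω hω, (okp d).2.1]; rfl
  let P : Orb → IPt 6 F 2 := fun d => pt (hv0 d) (hviso d)
  have hPs : Function.Surjective P := by
    intro p
    obtain ⟨e, he0, he, rfl⟩ := pt_surj p
    obtain ⟨x, hx, rfl⟩ := vec_surj hF ω hω e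
    have h := vec_spec x hx
    simp only [okVec, Bool.or_eq_true, Bool.not_eq_true', List.any_eq_true, force_eq, Bool.and_eq_true, blt_iff] at h
    rcases h with (h | h) | ⟨c, hc, ⟨hd, hl⟩, hy⟩
    · refine absurd ?_ he0
      rw [Nat.eq_of_beq_eq_true h]
      funext i
      fin_cases i <;> rfl
    · exfalso
      apply Nat.ne_of_beq_eq_false h
      refine gam_injective hF ω hω (show gherm x x < 4 from gadd_lt _ _) (by norm_num) ?_
      rw [← vec_herm hF ω hω, he]; rfl
    · have hc' : c ≠ 0 ∧ c < 4 := by simp only [List.mem_cons, List.not_mem_nil, or_false] at hc; omega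
      refine ⟨⟨⟨_, hd⟩, Nat.eq_of_beq_eq_true hl⟩, pt_eq _ _ he0 he (gam ω c) ?_⟩
      show vec ω (vt _) = _
      rw [Nat.eq_of_beq_eq_true hy, vec_scale hF ω hω c hc'.2]
  let Rel : ↥H → SU 6 F 2 → Prop := fun u g => ∀ d, g • P d = P (mv u d)
  have hgen : ∀ k < 9, ∀ hk : ((Fi3510.hw.getD k []).map presFi22.σ).prod ∈ H, ∀ g : SU 6 F 2,
      (∀ x : ℕ, mat g *ᵥ vec ω x = vec ω ((gds.getD k []).foldr (fun e x => gtv (vt e) x) x)) →
      Rel ⟨_, hk⟩ g := by
    intro k hk hm g hg d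
    obtain ⟨c, hc0, hc4, hce⟩ := (okp d).2.2.2 k hk
    refine smul_pt_eq g _ _ _ _ (gam ω c) ?_
    rw [hg, ← hce, vec_scale hF ω hω c hc4]
    congr 3
    show _ = ((Fi3510.cert.hom Fi3510.hlt _ d.1 : Fin _) : ℕ)
    rw [Fi3510.cert.hom_word_run' Fi3510.hlt hid _ (fun x hx => ?_), hwR_getD]
    · rfl
    · rw [List.getD_eq_getElem _ _ (show k < Fi3510.hw.length from hk)] at hx
      exact Fi3510.hhw _ (List.getElem_mem _) x hx
  have hfold : ∀ ds : List ℕ, (∀ e ∈ ds, e < 3510 ∧ orbLab Fi3510.orb e = 2) → ∃ g : SU 6 F 2, ∀ x : ℕ,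
      mat g *ᵥ vec ω x = vec ω (ds.foldr (fun e x => gtv (vt e) x) x) := by
    intro ds hds
    induction ds with
    | nil => exact ⟨1, fun x => by rw [mat_one, one_mulVec]; rfl⟩
    | cons e ds ih =>
      obtain ⟨g, hg⟩ := ih fun y hy => hds y (List.mem_cons_of_mem _ hy)
      obtain ⟨he, hl⟩ := hds e List.mem_cons_self
      refine ⟨tv hF (vec ω (vt e)) (hviso ⟨⟨e, he⟩, hl⟩) 1 hskew * g, fun x => ?_⟩
      rw [mat_mul, ← mulVec_mulVec, hg, tv_mulVec, one_mul, List.foldr_cons, vec_gtv hF ω hω]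
  have hex : ∀ u : ↥H, ∃ g, Rel u g := by
    have key : ∀ u ∈ H, ∃ hu : u ∈ H, ∃ g, Rel ⟨u, hu⟩ g := by
      intro u hu
      induction hu using Subgroup.closure_induction with
      | mem u hu =>
        obtain ⟨w, hw, rfl⟩ := hu
        obtain ⟨k, hk, rfl⟩ := List.getElem_of_mem hw
        have hk9 : k < 9 := hk
        have hm : ((Fi3510.cert.hw[k]).map presFi22.σ).prod ∈ H :=
          Subgroup.subset_closure ⟨_, List.getElem_mem hk, rfl⟩
        obtain ⟨g, hg⟩ := hfold _ (gds_mem k hk9)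
        refine ⟨hm, g, ?_⟩
        have hd : Fi3510.hw.getD k [] = Fi3510.cert.hw[k] := List.getD_eq_getElem _ _ hk
        have := hgen k hk9 (by rw [hd]; exact hm) g hg
        simp only [hd] at this
        exact this
      | one => exact ⟨one_mem H, 1, fun d => by rw [one_smul]; exact congrArg P (mv_one d).symm⟩
      | mul u v _ _ hu hv =>
        obtain ⟨hu', g, hg⟩ := hu
        obtain ⟨hv', k, hk⟩ := hv
        exact ⟨mul_mem hu' hv', g * k, fun d => by rw [mul_smul, hk, hg, ← mv_mul]⟩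
      | inv u _ hu =>
        obtain ⟨hu', g, hg⟩ := hu
        refine ⟨inv_mem hu', g⁻¹, fun d => ?_⟩
        rw [inv_smul_eq_iff, hg, ← mv_mul]
        refine congrArg P ?_
        rw [show (⟨u, hu'⟩ : ↥H) * ⟨u⁻¹, inv_mem hu'⟩ = 1 from Subtype.ext (mul_inv_cancel u), mv_one]
    intro u
    obtain ⟨_, g, hg⟩ := key u u.2
    exact ⟨g, hg⟩
  have huniq : ∀ u g g', Rel u g → Rel u g' → (g : PSU 6 F 2) = g' := by
    intro u g g' hg hg'
    refine QuotientGroup.eq.mpr ?_
    obtain ⟨c, hc⟩ := scalar_of_fix hF (n := 6) (by norm_num) (g⁻¹ * g') fun p => by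
      obtain ⟨d, rfl⟩ := hPs p
      rw [mul_smul, hg' d, ← hg d, inv_smul_smul]
    rw [Subgroup.mem_center_iff]
    intro k
    revert hc
    generalize g⁻¹ * g' = z
    intro hc
    refine su_ext fun x => ?_
    rw [mat_mul, mat_mul, ← mulVec_mulVec, ← mulVec_mulVec, hc, hc, mulVec_smul]
  choose gf hgf using hex
  let φ : ↥H →* PSU 6 F 2 := MonoidHom.mk' (fun u => (gf u : PSU 6 F 2)) fun u v =>
    huniq (u * v) _ (gf u * gf v) (hgf _) fun d => by rw [mul_smul, hgf, hgf, ← mv_mul]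
  -- the partner `c`
  have hcH : ((([2] : List ℕ)).map presFi22.σ).prod ∈ H :=
    Subgroup.subset_closure ⟨[2], show [2] ∈ Fi3510.hw by decide, rfl⟩
  set cH : ↥H := ⟨_, hcH⟩
  set t₆ := tv hF (vec ω (vt d₆.1)) (hviso d₆) 1 hskew
  have hc6 : φ cH = (t₆ : PSU 6 F 2) := huniq cH _ _ (hgf _)
    (hgen 1 (by norm_num) hcH t₆ fun x => by
      rw [tv_mulVec, one_mul]; exact (vec_gtv hF ω hω _ _).symm)
  have hsur : Function.Surjective φ := by
    rw [← MonoidHom.range_eq_top, eq_top_iff]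
    have htop : Subgroup.map (QuotientGroup.mk' _) (Subgroup.closure (TSet (F := F) (q := 2) (n := 6))) =
        (⊤ : Subgroup (PSU 6 F 2)) := by
      rw [generated hF (by norm_num) (by norm_num)]
      exact Subgroup.map_top_of_surjective _ (QuotientGroup.mk'_surjective _)
    rw [← htop, MonoidHom.map_closure, Subgroup.closure_le]
    rintro _ ⟨A, ⟨v, c, hv, hA⟩, rfl⟩
    show (A : PSU 6 F 2) ∈ φ.range
    by_cases hvz : v = 0
    · have : A = 1 := su_ext fun x => by rw [hA, hvz, tmat_zero, mat_one, one_mulVec]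
      rw [this]; exact one_mem _
    have hcs : c + frob hF c = 0 := skew_of_tmat hF hv hvz fun a b => by rw [← hA]; exact su_h A a b
    have hAt : A = tv hF v hv c hcs := su_ext fun x => by rw [hA, tv_mulVec, tmat_mulVec]
    have hc01 : c = 0 ∨ c = 1 := by
      rw [frob_apply] at hcs
      have : c * (c - 1) = 0 := by linear_combination hcs - c * h2
      rcases mul_eq_zero.mp this with e | e
      exacts [Or.inl e, Or.inr (sub_eq_zero.mp e)]
    rcases hc01 with rfl | rfl
    · have : A = 1 := su_ext fun x => by rw [hAt, tv_mulVec, mat_one, one_mulVec, zero_mul, zero_smul, add_zero]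
      rw [this]; exact one_mem _
    obtain ⟨d, hd⟩ := hPs (pt hvz hv)
    obtain ⟨u, rfl⟩ := exists_mv d
    have hh := (smul_pt (gf u) (hv0 d₆) (hviso d₆)).symm.trans ((hgf u d₆).trans hd)
    have hh' := congrArg Subtype.val hh
    change Submodule.span F {mat (gf u) *ᵥ vec ω (vt d₆.1)} = Submodule.span F {v} at hh'
    obtain ⟨l, hl⟩ := Submodule.mem_span_singleton.mp (hh' ▸ Submodule.mem_span_singleton_self _)
    have hl0 : l ≠ 0 := fun e => by
      rw [e, zero_smul] at hl
      exact mat_ne_zero (gf u) (hv0 d₆) hl.symm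
    have hconj : gf u * t₆ * (gf u)⁻¹ = A := by
      rw [hAt, conj_tv]
      refine su_ext fun x => ?_
      rw [tv_mulVec, tv_mulVec, ← hl, h_smul_right hF, frob_apply, one_mul, one_mul, smul_smul]
      have h3 : l ^ 2 * l = 1 := by
        have := FiniteField.pow_card_sub_one_eq_one l hl0
        rw [hF] at this
        linear_combination this
      rw [mul_right_comm, h3, one_mul]
    refine ⟨u * cH * u⁻¹, ?_⟩
    rw [map_mul, map_mul, map_inv, hc6, ← hconj]
    rfl
  -- the transposition `a`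
  have haH : ta ∈ H := Subgroup.subset_closure ⟨[0], show [0] ∈ Fi3510.hw by decide, rfl⟩
  set aH : ↥H := ⟨ta, haH⟩
  have ha1 : φ aH = 1 := huniq aH _ 1 (hgf _)
    (hgen 0 (by norm_num) haH 1 fun x => by rw [mat_one, one_mulVec]; rfl)
  have hao : orderOf aH = 2 := by
    rw [← Subgroup.orderOf_coe]; exact facts.2.1.1.1 ta mem_conjugatesOf_self
  have hHcard : 3510 * Nat.card ↥H = 64561751654400 := by
    obtain ⟨e, -⟩ := Fi3510.cert.exists_equiv Fi3510.hlt hid Fi3510.hhw
    rw [← (show Nat.card presFi22.Grp = 64561751654400 from Cfsg.Agent.S1696.result.2), ← H.card_mul_index,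
      index_eq_of_equiv e, mul_comm]
    rfl
  have hker : φ.ker = Subgroup.zpowers aH := by
    refine (Subgroup.eq_of_le_of_card_ge (Subgroup.zpowers_le.mpr ha1) ?_).symm
    rw [Nat.card_zpowers, hao]
    have e := φ.ker.card_mul_index
    rw [Subgroup.index_ker, MonoidHom.range_eq_top.mpr hsur, Subgroup.card_top,
      CfsgThreeTrans.M22.card_psu_eq hF] at e
    omega
  have haZ : aH ∈ Subgroup.center ↥H := Subgroup.mem_center_iff.mpr fun u => Subtype.ext (by
    have hu : (u : presFi22.Grp) ∈ Subgroup.centralizer ({ta} : Set presFi22.Grp) := by rw [facts.1]; exact u.2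
    exact Subgroup.mem_centralizer_singleton_iff.mp hu)
  haveI : IsSimpleGroup (PSU 6 F 2) := UnitarySimple.simple hF (by norm_num) (by norm_num)
  have hcen : Subgroup.center ↥H = Subgroup.zpowers aH := by
    refine le_antisymm ?_ (Subgroup.zpowers_le.mpr haZ)
    rcases IsSimpleGroup.eq_bot_or_eq_top_of_normal ((Subgroup.center ↥H).map φ)
      (Subgroup.Normal.map inferInstance _ hsur) with h | h
    · rw [Subgroup.map_eq_bot_iff, hker] at h; exact h
    · exfalso
      letI : CommGroup (PSU 6 F 2) := { (inferInstance : Group (PSU 6 F 2)) with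
        mul_comm := fun a b => by
          obtain ⟨a', ha', rfl⟩ : a ∈ (Subgroup.center ↥H).map φ := h ▸ Subgroup.mem_top a
          obtain ⟨b', rfl⟩ := hsur b
          rw [← map_mul, ← map_mul, Subgroup.mem_center_iff.mp ha' b'] }
      have hp := IsSimpleGroup.prime_card (α := PSU 6 F 2)
      rw [CfsgThreeTrans.M22.card_psu_eq hF] at hp
      norm_num at hp
  refine ⟨by rw [hcen, Nat.card_zpowers, hao], ⟨(QuotientGroup.quotientMulEquivOfEq (hcen.trans hker.symm)).trans
    (QuotientGroup.quotientKerEquivOfSurjective φ hsur)⟩, fun L hL => ?_⟩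
  rw [hcen] at hL
  have hidx : L.index = 2 := by rw [hL.index_eq_card, Nat.card_zpowers, hao]
  haveI := Subgroup.normal_of_index_eq_two hidx
  -- partners are conjugate to `c`
  have hc : (cH : presFi22.Grp) = (g'.map presFi22.σ).prod * ta * ((g'.map presFi22.σ).prod)⁻¹ := by
    refine hinj (Equiv.ext fun d => Fin.ext ?_)
    rw [hom_conj g' (by decide)]
    have := allN_spec c_check d d.2
    rw [force_eq] at this
    rw [Nat.eq_of_beq_eq_true this]
    refine (Fi3510.cert.hom_word_run' Fi3510.hlt hid [2] (by decide) d).trans ?_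
    rw [runT_eq]; rfl
  have hX : ∀ v ∈ six, ∃ x : ↥H, (x : presFi22.Grp) = (v.map presFi22.σ).prod * ta * ((v.map presFi22.σ).prod)⁻¹ ∧
      (x ∈ L ↔ cH ∈ L) := by
    intro v hv
    obtain ⟨hv9, hvl⟩ := six_ok v hv
    have hp0 := Fi3510.cert.hom_word_run' Fi3510.hlt hid v hv9 ⟨0, Fi3510.cert.hn⟩
    set p := Fi3510.cert.hom Fi3510.hlt (v.map presFi22.σ).prod ⟨0, Fi3510.cert.hn⟩ with hp
    obtain ⟨u, hu⟩ := exists_mv ⟨p, by rw [hp0]; exact hvl⟩
    refine ⟨u * cH * u⁻¹, ?_, ⟨fun h => ?_, fun h => Subgroup.Normal.conj_mem inferInstance _ h u⟩⟩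
    · rw [Subgroup.coe_mul, Subgroup.coe_mul, Subgroup.coe_inv, hc,
        show (u : presFi22.Grp) * ((g'.map presFi22.σ).prod * ta * ((g'.map presFi22.σ).prod)⁻¹) *
          (u : presFi22.Grp)⁻¹ = ((u : presFi22.Grp) * (g'.map presFi22.σ).prod) * ta *
            ((u : presFi22.Grp) * (g'.map presFi22.σ).prod)⁻¹ by group]
      refine conj_eq ?_
      rw [← hp, map_mul, Equiv.Perm.mul_apply,
        show Fi3510.cert.hom Fi3510.hlt (g'.map presFi22.σ).prod ⟨0, Fi3510.cert.hn⟩ = d₆.1 from Fin.ext (by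
          rw [Fi3510.cert.hom_word_run' Fi3510.hlt hid g' (by decide)]
          show runT Fi3510.table 9 g'.reverse 0 = 6
          decide +kernel)]
      exact congrArg Subtype.val hu
    · have := Subgroup.Normal.conj_mem (inferInstance : L.Normal) _ h u⁻¹
      rwa [show u⁻¹ * (u * cH * u⁻¹) * u⁻¹⁻¹ = cH by group] at this
  choose! X hXv hXL using hX
  set Pd := (six.map X).prod
  have hPd : Pd ∈ L := by
    have hp : ∀ a b, a ∈ six → b ∈ six → X a * X b ∈ L := fun a b ha hb =>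
      (Subgroup.mul_mem_iff_of_index_two hidx).mpr ((hXL a ha).trans (hXL b hb).symm)
    simp only [Pd, six, List.map_cons, List.map_nil, List.prod_cons, List.prod_nil, mul_one]
    have hre : ∀ a b c d e f : ↥H, a * (b * (c * (d * (e * f)))) = a * b * ((c * d) * (e * f)) :=
      fun a b c d e f => by simp only [mul_assoc]
    rw [hre]
    exact mul_mem (hp _ _ (by simp [six]) (by simp [six])) (mul_mem (hp _ _ (by simp [six]) (by simp [six]))
      (hp _ _ (by simp [six]) (by simp [six])))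
  have hcube : Pd * Pd * Pd = aH := by
    refine Subtype.ext (hinj (Equiv.ext fun d => Fin.ext ?_))
    have hrun : ∀ l : List (List ℕ), (∀ v ∈ l, v ∈ six) → ∀ d : Fin Fi3510.cert.T.n,
        (Fi3510.cert.hom Fi3510.hlt ((l.map X).prod : ↥H) d : ℕ) =
          l.foldr (fun v x => conjMap Fi3510.table 9 zf v x) (d : ℕ) := by
      intro l
      induction l with
      | nil => intro _ d; rw [List.map_nil, List.prod_nil, OneMemClass.coe_one, map_one]; rfl
      | cons v l ih =>
        intro hl d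
        rw [List.map_cons, List.prod_cons, Subgroup.coe_mul, map_mul, Equiv.Perm.mul_apply, hXv v (hl v List.mem_cons_self),
          hom_conj v (six_ok v (hl v List.mem_cons_self)).1, ih fun y hy => hl y (List.mem_cons_of_mem _ hy)]
        rfl
    have h := hrun (six ++ six ++ six) (fun v hv => by simp only [List.mem_append] at hv; tauto) d
    rw [List.map_append, List.map_append, List.prod_append, List.prod_append] at h
    rw [h, hom_ta]
    have := allN_spec six_check d d.2
    rw [force_eq] at this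
    exact Nat.eq_of_beq_eq_true this
  have haL : aH ∈ L := hcube ▸ mul_mem (mul_mem hPd hPd) hPd
  have : aH = 1 := by
    have := hL.disjoint.le_bot ⟨Subgroup.mem_zpowers aH, haL⟩
    exact Subgroup.mem_bot.mp this
  rw [this, orderOf_one] at hao
  norm_num at hao

/-- The point stabiliser is a non-split double cover of PSU(6, 2). -/
theorem double_cover : ∃ (K : Type) (_ : Field K) (_ : Fintype K), Fintype.card K = 4 ∧
    IsNonsplitDoubleCover ↥Fi3510.cert.sub (PSU 6 K 2) := by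
  letI : Fintype (GaloisField 2 2) := Fintype.ofFinite _
  have hF : Fintype.card (GaloisField 2 2) = 2 ^ 2 := by
    rw [← Nat.card_eq_fintype_card]; exact GaloisField.card 2 2 (by norm_num)
  exact ⟨GaloisField 2 2, inferInstance, inferInstance, hF.trans (by norm_num), double_cover_field hF⟩

end CfsgLib.CosetEnum.Fi22Class
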